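import Groth.Agent.RatDense.Basic
import Groth.Agent.AffLim.Props

/-!
# Schematic density and flat affine limits
-/

set_option autoImplicit false
set_option backward.isDefEq.respectTransparency false
set_option backward.defeqAttrib.useBackward true

open CategoryTheory CategoryTheory.Limits AlgebraicGeometry TopologicalSpace Opposite

universe u

namespace Groth.Agent.SchDenseLim

/-- If finitely many multiplications have joint kernel dying in a flat algebra, then they have
trivial joint kernel on the algebra. -/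
theorem eq_zero_of_flat {A B : Type u} [CommRing A] [CommRing B] [Algebra A B] [Module.Flat A B]
    {ι : Type u} [Fintype ι] (a : ι → A)
    (hker : ∀ s : A, (∀ i, a i * s = 0) → algebraMap A B s = 0) (σ : B)
    (h : ∀ i, a i • σ = 0) : σ = 0 := by
  classical
  let f : A →ₗ[A] (ι → A) := LinearMap.pi fun i => LinearMap.mulLeft A (a i)
  have h0 : f.lTensor B (σ ⊗ₜ[A] (1 : A)) = 0 := by
    apply (TensorProduct.piScalarRight A A B ι).injective
    rw [map_zero, LinearMap.lTensor_tmul, TensorProduct.piScalarRight_apply,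
      TensorProduct.piScalarRightHom_tmul]
    funext i
    simpa [f] using h i
  have hex : Function.Exact (f.ker.subtype.lTensor B) (f.lTensor B) :=
    Module.Flat.lTensor_exact B (LinearMap.exact_subtype_ker_map f)
  obtain ⟨y, hy⟩ := (hex _).mp h0
  have hzero : ∀ y, TensorProduct.rid A B (f.ker.subtype.lTensor B y) = 0 := by
    intro y
    induction y using TensorProduct.induction_on with
    | zero => simp
    | tmul b k =>
      rw [LinearMap.lTensor_tmul, TensorProduct.rid_tmul, Submodule.subtype_apply, Algebra.smul_def,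
        hker _ (fun i => congrFun (LinearMap.mem_ker.mp k.2) i)]
      · exact zero_mul b
    | add x y hx hy => rw [map_add, map_add, hx, hy, add_zero]
  have := hzero y
  rw [hy] at this
  simpa using this

/-- A flat preimage of an open is schematically dense as soon as the sections on an affine cover
killed on the open die upstairs. -/
theorem preimage_of_flat_of_kernel {X X' : Scheme.{u}} [IsNoetherian X] (f : X' ⟶ X) [Flat f]
    (U : X.Opens)
    (hker : ∀ y : X', ∃ W : X.Opens, IsAffineOpen W ∧ f y ∈ W ∧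
      ∀ s : Γ(X, W), RatDense.res (inf_le_left : W ⊓ U ≤ W) s = 0 → f.app W s = 0) :
    CInt.IsSchematicallyDense (f ⁻¹ᵁ U) := by
  classical
  refine RatDense.of_forall_affine fun y O hy => ?_
  obtain ⟨W, hW, hyW, hWk⟩ := hker y
  obtain ⟨_, ⟨W' : X'.Opens, hW', rfl⟩, hyW', hW'O⟩ :=
    X'.isBasis_affineOpens.exists_subset_of_mem_open (show y ∈ O ⊓ f ⁻¹ᵁ W from ⟨hy, hyW⟩)
      (O ⊓ f ⁻¹ᵁ W).2
  have e : W' ≤ f ⁻¹ᵁ W := fun z hz => (hW'O hz).2
  refine ⟨W', hyW', fun z hz => (hW'O hz).1, fun σ hσ => ?_⟩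
  have hbasic : ∀ p : ((W ⊓ U : X.Opens) : Set X),
      ∃ a : Γ(X, W), X.basicOpen a ≤ W ⊓ U ∧ (p : X) ∈ X.basicOpen a :=
    fun p => hW.exists_basicOpen_le (V := W ⊓ U) ⟨p, p.2⟩ p.2.1
  choose a ha hpa using hbasic
  obtain ⟨t, ht⟩ := (NoetherianSpace.isCompact ((W ⊓ U : X.Opens) : Set X)).elim_finite_subcover
    (fun p => (X.basicOpen (a p) : Set X))
    (fun p => (X.basicOpen (a p)).2) fun z hz => Set.mem_iUnion.2 ⟨⟨z, hz⟩, hpa ⟨z, hz⟩⟩
  letI := (f.appLE W W' e).hom.toAlgebra
  haveI : Module.Flat Γ(X, W) Γ(X', W') := f.flat_appLE hW hW' e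
  have hn : ∀ p, ∃ n : ℕ, (a p) ^ n • σ = 0 := fun p => by
    have hle : X'.basicOpen (f.appLE W W' e (a p)) ≤ W' ⊓ f ⁻¹ᵁ U := by
      rw [Scheme.Hom.appLE, CommRingCat.comp_apply, Scheme.basicOpen_res, ← Scheme.preimage_basicOpen]
      exact inf_le_inf_left _ (f.preimage_mono ((ha p).trans inf_le_right))
    obtain ⟨n, hn⟩ := exists_pow_mul_eq_zero_of_res_basicOpen_eq_zero_of_isCompact X' hW'.isCompact σ
      (f.appLE W W' e (a p)) (RatDense.res_eq_zero_mono _ hle hσ)
    refine ⟨n, ?_⟩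
    rw [Algebra.smul_def, map_pow]
    exact hn
  choose n hn using hn
  refine eq_zero_of_flat (ι := ↥t) (fun p => (a p.1) ^ n p.1) (fun s hs => ?_) σ fun p => hn p.1
  show f.appLE W W' e s = 0
  have hres : RatDense.res (inf_le_left : W ⊓ U ≤ W) s = 0 :=
    RatDense.eq_zero_of_germ _ fun z hz => by
      obtain ⟨p, hp, hzp⟩ := Set.mem_iUnion₂.1 (ht hz)
      have h1 := congrArg (X.presheaf.germ W z hz.1) (hs ⟨p, hp⟩)
      rw [map_zero, map_mul, map_pow] at h1
      have hu : IsUnit (X.presheaf.germ W z hz.1 (a p)) := (X.mem_basicOpen (a p) z hz.1).1 hzp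
      exact (TopCat.Presheaf.germ_res_apply _ _ _ _ _).trans
        ((hu.pow (n p)).mul_right_eq_zero.1 h1)
  rw [Scheme.Hom.appLE, CommRingCat.comp_apply, hWk s hres, map_zero]

variable {I : Type u} [SmallCategory I] [IsCofiltered I] (D : I ⥤ Scheme.{u}) (c : Cone D)
  [∀ {i j} (f : i ⟶ j), IsAffineHom (D.map f)]

omit [IsCofiltered I] [∀ {i j} (f : i ⟶ j), IsAffineHom (D.map f)] in
theorem app_map_zero_of_le {i j k : I} (a : k ⟶ j) (b : j ⟶ i) {W : (D.obj i).Opens}
    (s : Γ(D.obj i, W)) (h : (D.map b).app W s = 0) : (D.map (a ≫ b)).app W s = 0 := by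
  rw [Scheme.Hom.congr_app (D.map_comp a b) W]
  simp only [Scheme.Hom.comp_app, CommRingCat.comp_apply, h, map_zero]

/-- Finitely many sections dying on the limit die at a common stage. -/
theorem exists_stage_zero (hc : IsLimit c) (i₀ : I) {ι : Type u} (S : Finset ι)
    (W : ι → (D.obj i₀).Opens) (hW : ∀ k, IsCompact (W k : Set (D.obj i₀)))
    (s : ∀ k, Γ(D.obj i₀, W k)) (h : ∀ k ∈ S, (c.π.app i₀).app (W k) (s k) = 0) :
    ∃ (j : I) (φ : j ⟶ i₀), ∀ k ∈ S, (D.map φ).app (W k) (s k) = 0 := by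
  classical
  induction S using Finset.induction_on with
  | empty => exact ⟨i₀, 𝟙 _, by simp⟩
  | insert k S hk ih =>
    obtain ⟨j, φ, hj⟩ := ih fun l hl => h l (Finset.mem_insert_of_mem hl)
    obtain ⟨j', φ', hj'⟩ := exists_app_map_eq_zero_of_isLimit D c hc (hW k) (s k)
      (h k (Finset.mem_insert_self _ _))
    obtain ⟨m, a, b, hab⟩ := IsCofiltered.cospan φ φ'
    refine ⟨m, a ≫ φ, fun l hl => ?_⟩
    obtain rfl | hl := Finset.mem_insert.mp hl
    · rw [hab]; exact app_map_zero_of_le D b φ' _ hj'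
    · exact app_map_zero_of_le D a φ _ (hj l hl)

end Groth.Agent.SchDenseLim
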